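import Cfsg.Agent.H941.Dl.EqExc
import Cfsg.Agent.H158.DlRows
import Cfsg.Agent.H64.Dl.Exc3
import Cfsg.Agent.H759.Dl.Small
import Cfsg.Agent.H979.LieSplit
import Cfsg.Agent.H400.LieLocal
import Cfsg.Agent.BiChar.SmallCard

/-!
# The rows of the exceptional groups for S4769 (helper941)

The fields `g2, f4, e6, e7, e8, te6, td4, tf4, tits` of `H759.Dl.Missing`. Hypotheses that are left:
* `RowFFourTwo` : `F₄(2)`, `p = 2`;
* `RowESixThree` : `E₆(q)`, `p = 3`, `3 ∣ q + 1`;
* `RowTwFFour` : `²F₄(q)`, `p = 2`;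
* `RowTits` : the Tits group, `p = 2`.
-/

set_option autoImplicit false

open Cfsg

namespace Cfsg.Agent.H941.Dl.Fields

open Cfsg.Lie Cfsg.Agent.H246.Dl Cfsg.Agent.H596.OneFacts Cfsg.Agent.H759.Dl Cfsg.Agent.H158.DlRows
open Cfsg.Agent.H64.Dl

universe u

/-- `F₄(2)`, `p = 2` -/
def RowFFourTwo : Prop :=
  ∀ (S : Type u) [Group S] [Finite S] [IsSimpleGroup S] (K : Type) [Field K] [Fintype K], Fintype.card K = 2 →
    Nonempty (S ≃* ↥(chevF4.group K)) → Row 2 S

/-- `E₆(q)`, `p = 3`, `3 ∣ q + 1` -/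
def RowESixThree : Prop :=
  ∀ (S : Type u) [Group S] [Finite S] [IsSimpleGroup S] (K : Type) [Field K] [Fintype K], 3 ∣ Fintype.card K + 1 →
    Nonempty (S ≃* ↥(chevE6.group K)) → Row 3 S

/-- `²F₄(q)`, `p = 2` -/
def RowTwFFour : Prop :=
  ∀ (S : Type u) [Group S] [Finite S] [IsSimpleGroup S], Iso2F4 S → Row 2 S

/-- the Tits group, `p = 2` -/
def RowTits : Prop :=
  ∀ (S : Type u) [Group S] [Finite S] [IsSimpleGroup S], IsoTits S → Row 2 S

theorem noncomm {S : Type*} [Group S] [IsSimpleGroup S] {p : ℕ} (hp : p.Prime) (h : IsLieTypeChar p S) :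
    ¬ IsMulCommutative S := by
  intro hc
  obtain ⟨a, b, hab⟩ := H400.LieLocal.exists_noncomm
    (H400.LieLocal.center_eq_bot (H979.LieSplit.hasSplit_of_isLieTypeChar hp h))
  exact hab (hc.is_comm.comm a b)

/-- the characteristic of a finite field -/
theorem exists_char (K : Type*) [Field K] [Fintype K] : ∃ r : ℕ, r.Prime ∧ CharP K r ∧
    ∀ p : ℕ, p.Prime → p ∣ Fintype.card K → p = r := by
  obtain ⟨r, hr⟩ := CharP.exists K
  obtain ⟨f, hpr, hf⟩ := FiniteField.card K r
  exact ⟨r, hpr, hr, fun p hp hd => (Nat.prime_dvd_prime_iff_eq hp hpr).1 (hp.dvd_of_dvd_pow (hf ▸ hd))⟩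

theorem card_pos' (K : Type*) [Field K] [Fintype K] : 1 < Fintype.card K := Fintype.one_lt_card

section

variable (T : FactTwo.{u}) (I : H671.H5.FactIM.{u})

include T I

theorem f_g2 : RowF.{u} (fun S => IsoChevG2 S) := by
  intro S _ _ _ h p hp hd
  obtain ⟨K, _, _, h3, ⟨e⟩⟩ := h
  obtain ⟨r, hr, hch, hu⟩ := exists_char K
  have hc : ¬ IsMulCommutative S := noncomm hr (by
    right; right; right; right; right; right; left
    refine ⟨K, inferInstance, inferInstance, hch, ?_⟩
    exact Or.inl ⟨h3, ⟨e⟩⟩)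
  have : Fact r.Prime := ⟨hr⟩
  by_cases hpK : p ∣ Fintype.card K
  · obtain rfl := hu p hp hpK
    by_cases h30 : (3 : K) = 0
    · have h4 : ((3 : ℕ) : K) = 0 := by exact_mod_cast h30
      obtain rfl := (Nat.prime_dvd_prime_iff_eq hp Nat.prime_three).1 ((CharP.cast_eq_zero_iff K p 3).1 h4)
      exact row_of_dl_two T I hc hp hd (H71.Dl.dl_eq_G2_three (K := K) e)
    · refine row_G2_eq (K := K) (by rw [Nat.card_eq_fintype_card]; omega) e fun h5 => ?_
      exfalso
      apply h30
      have h6 : ((Fintype.card K : ℕ) : K) = 0 := FiniteField.cast_card_eq_zero K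
      rw [Nat.card_eq_fintype_card] at h5
      rw [h5] at h6
      exact_mod_cast h6
  · exact row_of_dl_two T I hc hp hd (dl_G2 e hp hpK)

theorem f_f4 (H : RowFFourTwo.{u}) : RowF.{u} (fun S => IsoF4 S) := by
  intro S _ _ _ h p hp hd
  obtain ⟨K, _, _, ⟨e⟩⟩ := h
  obtain ⟨r, hr, hch, hu⟩ := exists_char K
  have hc : ¬ IsMulCommutative S := noncomm hr (by
    right; right; right; right; right; right; left
    refine ⟨K, inferInstance, inferInstance, hch, ?_⟩
    exact Or.inr (Or.inl ⟨e⟩))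
  have : Fact r.Prime := ⟨hr⟩
  have h1 := card_pos' K
  by_cases hpK : p ∣ Fintype.card K
  · obtain rfl := hu p hp hpK
    by_cases h2 : Fintype.card K = 2
    · rw [h2] at hpK
      obtain rfl := (Nat.prime_dvd_prime_iff_eq hp Nat.prime_two).1 hpK
      exact H S K h2 ⟨e⟩
    · exact row_F4_eq (K := K) (by rw [Nat.card_eq_fintype_card]; omega) e
  · obtain ⟨h2, h3⟩ := dl_F4 e hp hpK
    rcases Nat.lt_or_ge p 3 with h4 | h4
    · obtain rfl : p = 2 := by have := hp.two_le; omega
      exact Row.of_le (h2 rfl) (H64.Dl.many_F4 hp (by omega) e) le_rfl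
    · exact row_of_dl_two T I hc hp hd (h3 h4)

theorem f_e6 (H : RowESixThree.{u}) : RowF.{u} (fun S => IsoChevE6 S) := by
  intro S _ _ _ h p hp hd
  obtain ⟨K, _, _, ⟨e⟩⟩ := h
  obtain ⟨r, hr, hch, hu⟩ := exists_char K
  have hc : ¬ IsMulCommutative S := noncomm hr (by
    right; right; right; right; right; right; left
    refine ⟨K, inferInstance, inferInstance, hch, ?_⟩
    exact Or.inr (Or.inr (Or.inl ⟨e⟩)))
  have : Fact r.Prime := ⟨hr⟩
  have h1 := card_pos' K
  by_cases hpK : p ∣ Fintype.card K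
  · obtain rfl := hu p hp hpK
    exact row_E6_eq (K := K) e
  · obtain ⟨h2, h3, h5⟩ := dl_E6 e hp hpK
    rcases Nat.lt_or_ge p 3 with h4 | h4
    · obtain rfl : p = 2 := by have := hp.two_le; omega
      exact Row.of_le (h2 rfl) (H64.Dl.many_E6 hp (by omega) e) (by norm_num)
    · rcases Nat.lt_or_ge p 5 with h6 | h6
      · obtain rfl : p = 3 := by
          interval_cases p
          · rfl
          · exact absurd hp (by norm_num)
        by_cases h7 : 3 ∣ Fintype.card K - 1
        · exact Row.of_le (h3 rfl) (H64.Dl.many_E6 hp h7 e) (by norm_num)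
        · exact H S K (by omega) ⟨e⟩
      · exact row_of_dl_two T I hc hp hd (h5 h6)

theorem f_e7 : RowF.{u} (fun S => IsoE7 S) := by
  intro S _ _ _ h p hp hd
  obtain ⟨K, _, _, ⟨e⟩⟩ := h
  obtain ⟨r, hr, hch, hu⟩ := exists_char K
  have hc : ¬ IsMulCommutative S := noncomm hr (by
    right; right; right; right; right; right; left
    refine ⟨K, inferInstance, inferInstance, hch, ?_⟩
    exact Or.inr (Or.inr (Or.inr (Or.inl ⟨e⟩))))
  have : Fact r.Prime := ⟨hr⟩
  have h1 := card_pos' K
  by_cases hpK : p ∣ Fintype.card K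
  · obtain rfl := hu p hp hpK
    exact row_E7_eq (K := K) e
  · obtain ⟨h2, h3, h5⟩ := dl_E7 e hp hpK
    rcases Nat.lt_or_ge p 3 with h4 | h4
    · obtain rfl : p = 2 := by have := hp.two_le; omega
      exact Row.of_le (h2 rfl) (H64.Dl.many_E7 hp (by omega) e) (by norm_num)
    · rcases Nat.lt_or_ge p 5 with h6 | h6
      · obtain rfl : p = 3 := by
          interval_cases p
          · rfl
          · exact absurd hp (by norm_num)
        exact Row.of_le (h3 rfl) (many_E7_cross hp hpK e hd) le_rfl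
      · exact row_of_dl_two T I hc hp hd (h5 h6)

theorem f_e8 : RowF.{u} (fun S => IsoE8 S) := by
  intro S _ _ _ h p hp hd
  obtain ⟨K, _, _, ⟨e⟩⟩ := h
  obtain ⟨r, hr, hch, hu⟩ := exists_char K
  have hc : ¬ IsMulCommutative S := noncomm hr (by
    right; right; right; right; right; right; left
    refine ⟨K, inferInstance, inferInstance, hch, ?_⟩
    exact Or.inr (Or.inr (Or.inr (Or.inr ⟨e⟩))))
  have : Fact r.Prime := ⟨hr⟩
  have h1 := card_pos' K
  by_cases hpK : p ∣ Fintype.card K
  · obtain rfl := hu p hp hpK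
    exact row_E8_eq (K := K) e
  · obtain ⟨h2, h3, h5⟩ := dl_E8 e hp hpK
    rcases Nat.lt_or_ge p 3 with h4 | h4
    · obtain rfl : p = 2 := by have := hp.two_le; omega
      exact Row.of_le (h2 rfl) (H64.Dl.many_E8 hp (by omega) e) (by norm_num)
    · rcases Nat.lt_or_ge p 5 with h6 | h6
      · obtain rfl : p = 3 := by
          interval_cases p
          · rfl
          · exact absurd hp (by norm_num)
        exact Row.of_le (h3 rfl) (many_E8_cross hp hpK e hd) le_rfl
      · exact row_of_dl_two T I hc hp hd (h5 h6)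

theorem f_te6 : RowF.{u} (fun S => Iso2E6 S) := by
  intro S _ _ _ h p hp hd
  obtain ⟨K, _, _, q, hq, hK, ⟨e⟩⟩ := h
  obtain ⟨r, hr, hch, hu⟩ := exists_char K
  have hc : ¬ IsMulCommutative S := noncomm hr (by
    right; right; right; right; right; right; right; left
    refine ⟨K, inferInstance, inferInstance, hch, q, hq, ?_⟩
    exact Or.inl ⟨hK, ⟨e⟩⟩)
  have : Fact r.Prime := ⟨hr⟩
  have h1 := hq.two_le
  by_cases hpK : p ∣ Fintype.card K
  · obtain rfl := hu p hp hpK
    exact row_2E6_eq hq hK e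
  · obtain ⟨h2, h3, h5⟩ := dl_2E6 e hp hpK
    have hpq : ¬ p ∣ q := fun h0 => hpK (by rw [hK]; exact h0.trans (dvd_pow_self q (by norm_num)))
    rcases Nat.lt_or_ge p 3 with h4 | h4
    · obtain rfl : p = 2 := by have := hp.two_le; omega
      exact Row.of_le (h2 rfl) (many_TwE6 hq hK hp (by omega) e) le_rfl
    · rcases Nat.lt_or_ge p 5 with h6 | h6
      · obtain rfl : p = 3 := by
          interval_cases p
          · rfl
          · exact absurd hp (by norm_num)
        exact Row.of_le (h3 rfl) (many_TwE6_three hq hK hpq e) le_rfl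
      · exact row_of_dl_two T I hc hp hd (h5 h6)

theorem f_td4 : RowF.{u} (fun S => Iso3D4 S) := by
  intro S _ _ _ h p hp hd
  obtain ⟨K, _, _, q, hq, hK, ⟨e⟩⟩ := h
  obtain ⟨r, hr, hch, hu⟩ := exists_char K
  have hc : ¬ IsMulCommutative S := noncomm hr (by
    right; right; right; right; right; right; right; left
    refine ⟨K, inferInstance, inferInstance, hch, q, hq, ?_⟩
    exact Or.inr ⟨hK, ⟨e⟩⟩)
  have : Fact r.Prime := ⟨hr⟩
  by_cases hpK : p ∣ Fintype.card K
  · obtain rfl := hu p hp hpK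
    exact row_3D4_eq hq hK e
  · exact row_of_dl_two T I hc hp hd (dl_3D4 hK e hp hpK)

theorem f_tf4 (H : RowTwFFour.{u}) : RowF.{u} (fun S => Iso2F4 S) := by
  intro S _ _ _ h p hp hd
  have hc : ¬ IsMulCommutative S := noncomm Nat.prime_two (by
    right; right; right; right; right; right; right; right; right; left
    exact ⟨rfl, h⟩)
  rcases Nat.lt_or_ge p 3 with h4 | h4
  · obtain rfl : p = 2 := by have := hp.two_le; omega
    exact H S h
  · exact row_of_dl_two T I hc hp hd (dl_iso2F4 h hp h4)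

theorem f_tits (H : RowTits.{u}) : RowF.{u} (fun S => IsoTits S) := by
  intro S _ _ _ h p hp hd
  have hc : ¬ IsMulCommutative S := by
    intro hm
    have h1 : Nat.card S = 17971200 := Cfsg.Agent.BiChar.Small.card_of_isoTits h
    let _ : CommGroup S := { (inferInstance : Group S) with mul_comm := hm.is_comm.comm }
    have h2 : (Nat.card S).Prime := IsSimpleGroup.prime_card (α := S)
    rw [h1] at h2
    exact absurd h2 (by norm_num)
  rcases Nat.lt_or_ge p 3 with h4 | h4
  · obtain rfl : p = 2 := by have := hp.two_le; omega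
    exact H S h
  · exact row_of_dl_two T I hc hp hd (dl_tits h hp h4)

end

end Cfsg.Agent.H941.Dl.Fields
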