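import Cfsg.Agent.H941.Dl.PresG2
import Cfsg.Agent.H211.Dl.ThetaRgd
import Cfsg.Agent.H71.Dl.HeightRows

/-!
# S4769, the exceptional groups in their own characteristic (task 2511)
-/

set_option autoImplicit false
set_option linter.unusedSectionVars false

namespace Cfsg.Agent.H941.Dl

open CoxeterSystem Cfsg.Agent.ChevalleyStructure.CoxeterGeom Cfsg.Agent.Tits.Roots Cfsg.Agent.Tits.Core
open Cfsg Cfsg.Lie Cfsg.Agent.Nodes Cfsg.Agent.Nodes.Reps Cfsg.Agent.Nodes.BNOf Cfsg.Agent.Nodes.RGDLib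
  Cfsg.Agent.Nodes.Bruhat Cfsg.Agent.Nodes.LeviDec Cfsg.Agent.Nodes.RGDChev
  Cfsg.Agent.Omega.EH3.Kf.Lev Cfsg.Agent.Omega.EH3.Kf
open Cfsg.Agent.H246.Dl Cfsg.Agent.H211.Dl Cfsg.Agent.H71.Dl
open Cfsg.Agent.H396 Cfsg.Agent.H396.CommTab Cfsg.Agent.H638.FD

universe u

section Chev

theorem many_of_G1 {l : ℕ} {G : Type*} [Group G] [Finite G] {M : CoxeterMatrix (Fin l)} {A : Fin l → Fin l → ℤ}
    {h : IsCartan M A} {T : Subgroup G} {n : Fin l → G} {X : (Fin l → ℤ) → Subgroup G} {r : ℕ} [Fact r.Prime]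
    (hW : Finite M.Group) (R : RGD M.toCoxeterSystem h r T n X) (hX : G1 M.toCoxeterSystem h X = ⊤)
    (hC : CommGen M.toCoxeterSystem h X) : Many r G l := by
  have h1 := many_rank R (KFacts.RgdRigid.GG_eq_top hX) hC
  rwa [Fintype.card_fin] at h1

theorem many_chev {D : ChevalleyDatum} {l : ℕ} {M : CoxeterMatrix (Fin l)} (hp : IsType D l M) (K : Type u)
    [Field K] [Finite K] (r : ℕ) [Fact r.Prime] [CharP K r] (h4 : ∀ i j, M i j ≠ 4) (h6 : ∀ i j, M i j ≠ 6) :
    Many r ↥(D.group K) l := by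
  have hfin : Finite (GL D.Idx K) := inferInstance
  have hW : Finite M.Group := finite_W hp M.toCoxeterSystem
  exact many_of_G1 (finite_W hp M.toCoxeterSystem) (rgd (K := K) hp M.toCoxeterSystem r) (G1_eq_top hp _)
    (comm_of_sl (rgd (K := K) hp M.toCoxeterSystem r) (Cfsg.Agent.KFacts.RgdFiltWitt.sl_of_ne h4 h6))

variable (K : Type u) [Field K] [Finite K] (r : ℕ) [Fact r.Prime] [CharP K r]

theorem many_E6 : Many r ↥(chevE6.group K) 6 :=
  many_chev (M := CoxeterMatrix.E₆) (by simp [IsType, typeList]) K r (fun i j => (lab_E6 i j).1)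
    (fun i j => (lab_E6 i j).2)

theorem many_E7 : Many r ↥(chevE7.group K) 7 :=
  many_chev (M := CoxeterMatrix.E₇) (by simp [IsType, typeList]) K r (fun i j => (lab_E7 i j).1)
    (fun i j => (lab_E7 i j).2)

theorem many_E8 : Many r ↥(chevE8.group K) 8 :=
  many_chev (M := CoxeterMatrix.E₈) (by simp [IsType, typeList]) K r (fun i j => (lab_E8 i j).1)
    (fun i j => (lab_E8 i j).2)

theorem exists_one {K : Type u} [Field K] [Finite K] (h3 : 2 < Nat.card K) : ∃ c : K, c ≠ 0 ∧ c ≠ 1 := by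
  have := Fintype.ofFinite K
  rw [Nat.card_eq_fintype_card] at h3
  exact exists_ne h3

theorem many_F4 (h3 : 2 < Nat.card K) : Many r ↥(chevF4.group K) 4 := by
  have hfin : Finite (GL chevF4.Idx K) := inferInstance
  have hp := Omega.ML.Ex.Lie2.DatF4.isType_F4
  exact many_of_G1 (h := hp.isCartan) (finite_W hp CoxeterMatrix.F₄.toCoxeterSystem)
    (rgd (K := K) hp CoxeterMatrix.F₄.toCoxeterSystem r) (G1_eq_top hp _)
    (Omega.ML.Ex.Lie2.DatF4.commGen_F4 (exists_one h3))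

/-- `G₂(q)`, `3 ∤ q`, `q > 2`. -/
theorem many_G2 (h3 : (3 : K) ≠ 0) (hK : 2 < Nat.card K) : Many r ↥(chevG2.group K) 3 := by
  have hfin : Finite (GL chevG2.Idx K) := inferInstance
  have hp := FamG2.isType
  have hW : Finite CoxeterMatrix.G₂.Group := finite_W hp CoxeterMatrix.G₂.toCoxeterSystem
  refine many_classes (rgd (K := K) hp CoxeterMatrix.G₂.toCoxeterSystem r)
    (KFacts.RgdRigid.GG_eq_top (G1_eq_top hp _)) (commGen_G2 K ?_) ?_ (i := 0) (j := 1) (by decide)
    (pres_G2 K r h3)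
  · have := Fintype.ofFinite K
    classical
    rw [Nat.card_eq_fintype_card] at hK
    have h4 : 3 < Fintype.card K := by
      by_contra h5
      have h6 : Fintype.card K = 3 := by omega
      apply h3
      have h7 := Nat.cast_card_eq_zero K
      rw [h6] at h7
      exact_mod_cast h7
    have h5 : 2 < Fintype.card Kˣ := by rw [Fintype.card_units]; omega
    obtain ⟨x, y, z, h6, h7, h8⟩ := Fintype.two_lt_card_iff.1 h5
    by_cases hx : x = 1
    · subst hx
      exact ⟨y, z, y.ne_zero, fun h => h6 (Units.ext h.symm), z.ne_zero, fun h => h7 (Units.ext h.symm),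
        fun h => h8 (Units.ext h)⟩
    · by_cases hy : y = 1
      · subst hy
        exact ⟨x, z, x.ne_zero, fun h => hx (Units.ext h), z.ne_zero, fun h => h8 (Units.ext h.symm),
          fun h => h7 (Units.ext h)⟩
      · exact ⟨x, y, x.ne_zero, fun h => hx (Units.ext h), y.ne_zero, fun h => hy (Units.ext h),
          fun h => h6 (Units.ext h)⟩
  · intro k l hkl
    fin_cases k <;> fin_cases l <;> first | (exact absurd rfl hkl) | decide

/-- `G₂(q)`, `q > 3`: two orbits. -/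
theorem many_G2_two (hK : 3 < Nat.card K) : Many r ↥(chevG2.group K) 2 := by
  have hfin : Finite (GL chevG2.Idx K) := inferInstance
  have hp := FamG2.isType
  refine many_of_G1 (h := hp.isCartan) (finite_W hp CoxeterMatrix.G₂.toCoxeterSystem)
    (rgd (K := K) hp CoxeterMatrix.G₂.toCoxeterSystem r) (G1_eq_top hp _) (commGen_G2 K ?_)
  have := Fintype.ofFinite K
  classical
  rw [Nat.card_eq_fintype_card] at hK
  have h5 : 2 < Fintype.card Kˣ := by rw [Fintype.card_units]; omega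
  obtain ⟨x, y, z, h6, h7, h8⟩ := Fintype.two_lt_card_iff.1 h5
  by_cases hx : x = 1
  · subst hx
    exact ⟨y, z, y.ne_zero, fun h => h6 (Units.ext h.symm), z.ne_zero, fun h => h7 (Units.ext h.symm),
      fun h => h8 (Units.ext h)⟩
  · by_cases hy : y = 1
    · subst hy
      exact ⟨x, z, x.ne_zero, fun h => hx (Units.ext h), z.ne_zero, fun h => h8 (Units.ext h.symm),
        fun h => h7 (Units.ext h)⟩
    · exact ⟨x, y, x.ne_zero, fun h => hx (Units.ext h), y.ne_zero, fun h => hy (Units.ext h),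
        fun h => h6 (Units.ext h)⟩

end Chev

section Tw

variable {K : Type u} [Field K] [Fintype K] {q : ℕ} (r : ℕ) [Fact r.Prime] [CharP K r]

theorem many_2E6 (hq : IsPrimePow q) (hK : Fintype.card K = q ^ 2) : Many r ↥(twistedE6 K q) 4 := by
  have hfin : Finite (GL chevE6.Idx K) := inferInstance
  obtain ⟨φ, hφ, hqq⟩ := ChevalleyStructure.TwE6Basic.exists_frob hq hK
  exact many_of_G1 (Cfsg.Agent.KFacts.TwESix.Comb.finiteW CoxeterMatrix.F₄.toCoxeterSystem)
    (Nodes.RGDTwE6.rgd CoxeterMatrix.F₄.toCoxeterSystem hφ hqq r) (Nodes.RGDTwE6.G1_eq_top _ hφ hqq)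
    (commGen_E6 _ hφ hqq (p := r) (TwE6.exists_ne hφ hK hq.one_lt))

theorem many_3D4 (hq : IsPrimePow q) (hK : Fintype.card K = q ^ 3) : Many r ↥(twistedD4 K q) 3 := by
  have hfin : Finite (GL chevD4.Idx K) := inferInstance
  obtain ⟨φ, hφ⟩ := ChevalleyStructure.D4Fixed.exists_frob hq hK
  have hW : Finite CoxeterMatrix.G₂.Group :=
    Nodes.RGDFold.finite_W (hp := RGDTwD4.hp) CoxeterMatrix.G₂.toCoxeterSystem RGDTwD4.isCartan RGDTwD4.foldData
  have R := RGDTwD4.rgd CoxeterMatrix.G₂.toCoxeterSystem hK hφ r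
  have hG := KFacts.RgdRigid.GG_eq_top (T := RGDTwD4.T K q) (RGDTwD4.G1_eq_top CoxeterMatrix.G₂.toCoxeterSystem hK hφ)
  refine many_classes R hG (commGen_D4 hK hφ) ?_ (i := 0) (j := 1) (by decide)
    (pres_D4 hφ hq.one_lt hK r R hG)
  intro k l hkl
  fin_cases k <;> fin_cases l <;> first | (exact absurd rfl hkl) | decide

end Tw

/-! ### the rows -/

section Rows

variable {S : Type*} [Group S] [Finite S] {K : Type u} [Field K] {r : ℕ} [Fact r.Prime] [CharP K r]

theorem row_E6_eq [Finite K] (e : S ≃* ↥(chevE6.group K)) : Row r S :=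
  Row.of_le (dl_eq_E6 (K := K) e) ((many_E6 K r).of_equiv e) (by norm_num)

theorem row_E7_eq [Finite K] (e : S ≃* ↥(chevE7.group K)) : Row r S :=
  Row.of_le (dl_eq_E7 (K := K) e) ((many_E7 K r).of_equiv e) (by norm_num)

theorem row_E8_eq [Finite K] (e : S ≃* ↥(chevE8.group K)) : Row r S :=
  Row.of_le (dl_eq_E8 (K := K) e) ((many_E8 K r).of_equiv e) (by norm_num)

/-- `F₄(q)`, `q > 2` -/
theorem row_F4_eq [Finite K] (h : 2 < Nat.card K) (e : S ≃* ↥(chevF4.group K)) : Row r S :=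
  Row.of_le (dl_eq_F4 (K := K) e) ((many_F4 K r h).of_equiv e) le_rfl

/-- `G₂(q)`, `q > 2`; for `q = 3` the row of `FactTwo` is needed. -/
theorem row_G2_eq [Finite K] (h : 2 < Nat.card K) (e : S ≃* ↥(chevG2.group K))
    (h3 : Nat.card K = 3 → H596.OneFacts.Two 3 S) : Row r S := by
  by_cases h30 : (3 : K) = 0
  · have hr : r = 3 := by
      have h4 : ((3 : ℕ) : K) = 0 := by exact_mod_cast h30
      exact (Nat.prime_dvd_prime_iff_eq Fact.out Nat.prime_three).1 ((CharP.cast_eq_zero_iff K r 3).1 h4)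
    subst hr
    by_cases h5 : Nat.card K = 3
    · exact Row.of_twoStrict (dl_eq_G2_three (K := K) e) (h3 h5)
    · exact Row.of_le (dl_eq_G2_three (K := K) e) ((many_G2_two K 3 (by omega)).of_equiv e) le_rfl
  · exact Row.of_le (dl_eq_G2 (K := K) e) ((many_G2 K r h30 h).of_equiv e) le_rfl

theorem row_2E6_eq [Fintype K] {q : ℕ} (hq : IsPrimePow q) (hK : Fintype.card K = q ^ 2)
    (e : S ≃* ↥(twistedE6 K q)) : Row r S :=
  Row.of_le (dl_eq_2E6 (K := K) e) ((many_2E6 r hq hK).of_equiv e) le_rfl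

theorem row_3D4_eq [Fintype K] {q : ℕ} (hq : IsPrimePow q) (hK : Fintype.card K = q ^ 3)
    (e : S ≃* ↥(twistedD4 K q)) : Row r S :=
  Row.of_le (dl_eq_3D4 (K := K) e) ((many_3D4 r hq hK).of_equiv e) le_rfl

end Rows

end Cfsg.Agent.H941.Dl
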